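import Groth.Agent.Lib.Regular.UFD
import Groth.Agent.H15.Codim2.Hartogs
import Groth.Agent.Lib.RefHull.DivSheaf
import Mathlib.RingTheory.Ideal.UFD
import Mathlib.AlgebraicGeometry.AffineScheme

/-!
# Affine hull of an open subscheme of a regular affine scheme
-/

universe u

open CategoryTheory AlgebraicGeometry TopologicalSpace

namespace Groth.Agent.H68.EtHull

variable {C : CommRingCat.{u}}

/-- `I` is locally principal, then the complement of `V(I)` in `Spec C` is affine. -/
theorem isAffineOpen_compl (I : Ideal C) (hfg : I.FG)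
    (h : ∀ (m : Ideal C) [m.IsPrime], ∃ a : C, a ∈ I ∧ ∃ t ∉ m, ∀ x ∈ I, t * x ∈ Ideal.span {a})
    (U : (Spec C).Opens) (hU : (U : Set (Spec C)) = (PrimeSpectrum.zeroLocus (I : Set C))ᶜ) :
    IsAffineOpen U := by
  choose a ha t ht htx using fun z : PrimeSpectrum C => h z.asIdeal
  let W : PrimeSpectrum C → (Spec C).Opens := fun z => PrimeSpectrum.basicOpen (t z)
  have key : ∀ z, U.ι ⁻¹ᵁ W z = U.ι ⁻¹ᵁ PrimeSpectrum.basicOpen (t z * a z) := fun z => by
    ext ⟨Q, hQ⟩
    have hQ' : Q ∉ PrimeSpectrum.zeroLocus (I : Set C) := by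
      have := hQ; rwa [← SetLike.mem_coe, hU] at this
    show Q ∈ PrimeSpectrum.basicOpen (t z) ↔ Q ∈ PrimeSpectrum.basicOpen (t z * a z)
    show ¬ t z ∈ Q.asIdeal ↔ ¬ t z * a z ∈ Q.asIdeal
    refine ⟨fun hn hmem => ?_, fun hn hmem => hn (Ideal.mul_mem_right _ _ hmem)⟩
    refine hQ' ((PrimeSpectrum.mem_zeroLocus _ _).mpr fun x hx => ?_)
    have haQ : a z ∈ Q.asIdeal := (Q.isPrime.mem_or_mem hmem).resolve_left hn
    exact (Q.isPrime.mem_or_mem
      ((Ideal.span_singleton_le_iff_mem _).mpr haQ (htx z x hx))).resolve_left hn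
  have hW : TopologicalSpace.IsOpenCover W :=
    TopologicalSpace.Opens.ext (Set.eq_univ_of_forall fun z => by
      simp only [TopologicalSpace.Opens.coe_iSup, Set.mem_iUnion]
      exact ⟨z, ht z⟩)
  have : IsAffineHom U.ι := by
    refine (IsZariskiLocalAtTarget.iff_of_iSup_eq_top (P := @IsAffineHom) W hW).mpr fun z => ?_
    have hWz : IsAffineOpen (W z) := IsAffineOpen.Spec_basicOpen _
    have hle : (PrimeSpectrum.basicOpen (t z * a z) : (Spec C).Opens) ≤ U := fun Q hQ => by
      refine (Set.ext_iff.mp hU Q).mpr ?_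
      exact fun hQ' => hQ (Q.asIdeal.mul_mem_left _ ((PrimeSpectrum.mem_zeroLocus _ _).mp hQ' (ha z)))
    have h2 : IsAffineOpen (U.ι ⁻¹ᵁ W z) := by
      rw [key z]
      exact (IsAffineOpen.Spec_basicOpen (t z * a z)).preimage_of_isOpenImmersion U.ι
        (by rw [Scheme.Opens.opensRange_ι]; exact hle)
    have : IsAffine (W z : Scheme.{u}) := hWz
    have : IsAffine (U.ι ⁻¹ᵁ W z : Scheme.{u}) := h2
    exact isAffineHom_of_isAffine _
  exact isAffine_of_isAffineHom U.ι

section

variable [IsNoetherianRing C] (hreg : ∀ (m : Ideal C) [m.IsPrime],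
  IsRegularLocalRing (Localization.AtPrime m))
include hreg

/-- A prime of height at most one of a regular ring is locally principal. -/
theorem exists_mem_span_of_height_le_one (P : Ideal C) [hP : P.IsPrime] (h1 : P.height ≤ 1)
    (m : Ideal C) [m.IsPrime] :
    (P.map (algebraMap C (Localization.AtPrime m))).IsPrincipal := by
  have := hreg m
  have := Lib.Regular.Quotient.isDomain (Localization.AtPrime m)
  have := Lib.Regular.UFD.uniqueFactorizationMonoid (Localization.AtPrime m)
  by_cases hPm : P ≤ m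
  · have hd : Disjoint (m.primeCompl : Set C) (P : Set C) :=
      Set.disjoint_left.mpr fun x hx hxP => hx (hPm hxP)
    have : (P.map (algebraMap C (Localization.AtPrime m))).IsPrime :=
      IsLocalization.isPrime_of_isPrime_disjoint m.primeCompl _ P hP hd
    have hh : (P.map (algebraMap C (Localization.AtPrime m))).height = P.height := by
      conv_rhs => rw [← IsLocalization.under_map_of_isPrime_disjoint m.primeCompl
        (Localization.AtPrime m) hP hd]
      exact (IsLocalization.height_under m.primeCompl _).symm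
    by_cases hb : P.map (algebraMap C (Localization.AtPrime m)) = ⊥
    · rw [hb]; exact bot_isPrincipal
    · obtain ⟨x, hxmem, hxp⟩ := Ideal.IsPrime.exists_mem_prime_of_ne_bot ‹_› hb
      have : (Ideal.span {x}).IsPrime := (Ideal.span_singleton_prime hxp.ne_zero).mpr hxp
      refine ⟨x, ?_⟩
      rcases ((Ideal.span_singleton_le_iff_mem _).mpr hxmem).eq_or_lt with h | h
      · exact h.symm
      · exfalso
        have h0 : (⊥ : Ideal (Localization.AtPrime m)) < Ideal.span {x} :=
          bot_lt_iff_ne_bot.mpr (by simpa using hxp.ne_zero)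
        have h3 := Ideal.height_strict_mono_of_isPrime_of_isPrime h0
        have h4 := Ideal.height_strict_mono_of_isPrime_of_isPrime h
        rw [hh] at h4
        have := lt_of_lt_of_le h4 h1
        rw [ENat.lt_one_iff_eq_zero] at this
        rw [this] at h3
        exact not_lt_zero h3
  · obtain ⟨x, hxP, hxm⟩ := Set.not_subset.mp hPm
    rw [Ideal.eq_top_of_isUnit_mem _ (Ideal.mem_map_of_mem _ hxP)
      (IsLocalization.map_units _ (⟨x, hxm⟩ : m.primeCompl))]
    exact top_isPrincipal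

/-- A finite product of primes of height at most one is locally principal. -/
theorem exists_mem_span_prod (T : Finset (Ideal C)) (hT : ∀ P ∈ T, P.IsPrime ∧ P.height ≤ 1)
    (m : Ideal C) [m.IsPrime] :
    ∃ a : C, a ∈ ∏ P ∈ T, P ∧ ∃ t ∉ m, ∀ x ∈ ∏ P ∈ T, P, t * x ∈ Ideal.span {a} := by
  classical
  induction T using Finset.induction with
  | empty => exact ⟨1, by simp, 1, m.one_notMem, fun x _ => by simp⟩
  | insert P T hPT ih =>
    obtain ⟨a, ha, t, ht, htx⟩ := ih fun Q hQ => hT Q (Finset.mem_insert_of_mem hQ)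
    obtain ⟨hP, h1⟩ := hT P (Finset.mem_insert_self P T)
    obtain ⟨⟨g, hg⟩⟩ := exists_mem_span_of_height_le_one hreg P h1 m
    have hgm : g ∈ P.map (algebraMap C (Localization.AtPrime m)) := hg ▸ Submodule.mem_span_singleton_self g
    obtain ⟨⟨⟨b, hb⟩, s⟩, hbs⟩ := (IsLocalization.mem_map_algebraMap_iff m.primeCompl _).mp hgm
    have hx : ∀ x ∈ P, ∃ u ∉ m, u * x ∈ Ideal.span {b} := fun x hx => by
      have hm : algebraMap C (Localization.AtPrime m) x ∈
          (Ideal.span {b}).map (algebraMap C (Localization.AtPrime m)) := by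
        have h2 := Ideal.mem_map_of_mem (algebraMap C (Localization.AtPrime m)) hx
        rw [hg] at h2
        rw [Ideal.map_span, Set.image_singleton, ← hbs,
          Ideal.span_singleton_mul_right_unit (IsLocalization.map_units _ s)]
        exact h2
      obtain ⟨⟨⟨c, hc⟩, u⟩, hcu⟩ := (IsLocalization.mem_map_algebraMap_iff m.primeCompl _).mp hm
      rw [← map_mul] at hcu
      obtain ⟨v, hv⟩ := (IsLocalization.eq_iff_exists m.primeCompl _).mp hcu
      refine ⟨v * u, m.primeCompl.mul_mem v.2 u.2, ?_⟩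
      rw [show (v : C) * u * x = v * (x * u) by ring, hv]
      exact Ideal.mul_mem_left _ _ hc
    obtain ⟨G, hG⟩ := IsNoetherian.noetherian (R := C) P
    choose u hu hux using fun x : G => hx x.1 (hG ▸ Submodule.subset_span x.2)
    refine ⟨b * a, ?_, (∏ x, u x) * t, ?_, fun y hy => ?_⟩
    · rw [Finset.prod_insert hPT]; exact Ideal.mul_mem_mul hb ha
    · exact m.primeCompl.mul_mem (m.primeCompl.prod_mem fun x _ => hu x) ht
    rw [Finset.prod_insert hPT] at hy
    refine Submodule.mul_induction_on hy (fun x hx' z hz => ?_) fun y z hy hz => ?_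
    · have : (∏ x, u x) * x ∈ Ideal.span {b} := by
        rw [← hG] at hx'
        refine Submodule.span_induction (fun w hw => ?_) (by simp) (fun _ _ _ _ h h' => ?_)
          (fun c w _ h => ?_) hx'
        · obtain ⟨q, hq⟩ := Finset.dvd_prod_of_mem u (Finset.mem_univ (⟨w, hw⟩ : G))
          rw [hq, show u ⟨w, hw⟩ * q * w = q * (u ⟨w, hw⟩ * w) by ring]
          exact Ideal.mul_mem_left _ _ (hux ⟨w, hw⟩)
        · rw [mul_add]; exact add_mem h h'
        · rw [smul_eq_mul, mul_left_comm]; exact Ideal.mul_mem_left _ _ h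
      rw [show (∏ x, u x) * t * (x * z) = ((∏ x, u x) * x) * (t * z) by ring,
        ← Ideal.span_singleton_mul_span_singleton]
      exact Ideal.mul_mem_mul this (htx z hz)
    · rw [mul_add]; exact add_mem hy hz

theorem isNormalScheme_spec : Pi1.IsNormalScheme (Spec C) := fun z => by
  have := hreg z.asIdeal
  have : IsRegularLocalRing ((Spec C).presheaf.stalk z) := .of_ringEquiv
    (IsLocalization.algEquiv z.asIdeal.primeCompl (Localization.AtPrime z.asIdeal)
      ((Spec.structureSheaf C).presheaf.stalk z)).toRingEquiv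
  exact ⟨Lib.Regular.Quotient.isDomain _, Lib.Regular.UFD.isIntegrallyClosed _⟩

/-- An open subscheme of a regular affine scheme sits in an affine one with the same functions. -/
theorem exists_affine_open (U₀ : (Spec C).Opens) :
    ∃ (U₁ : (Spec C).Opens) (h : U₀ ≤ U₁), IsAffineOpen U₁ ∧
      Function.Bijective ((Spec C).presheaf.map (homOfLE h).op) := by
  classical
  obtain ⟨J, hJ⟩ := (PrimeSpectrum.isClosed_iff_zeroLocus_ideal _).mp U₀.isOpen.isClosed_compl
  have hfin := Ideal.finite_minimalPrimes_of_isNoetherianRing C J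
  let T : Finset (Ideal C) := hfin.toFinset.filter fun P => P.height ≤ 1
  have hT : ∀ P ∈ T, P.IsPrime ∧ P.height ≤ 1 := fun P hP => by
    rw [Finset.mem_filter, Set.Finite.mem_toFinset] at hP
    exact ⟨hP.1.1.1, hP.2⟩
  let U₁ : (Spec C).Opens :=
    ⟨(PrimeSpectrum.zeroLocus ((∏ P ∈ T, P : Ideal C) : Set C))ᶜ,
      (PrimeSpectrum.isClosed_zeroLocus _).isOpen_compl⟩
  have hmem : ∀ Q : PrimeSpectrum C, Q ∈ U₁ ↔ ∀ P ∈ T, ¬ P ≤ Q.asIdeal := fun Q => by
    show ¬ (((∏ P ∈ T, P : Ideal C) : Set C) ⊆ (Q.asIdeal : Set C)) ↔ _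
    rw [SetLike.coe_subset_coe, Q.isPrime.prod_le]
    simp
  have h01 : U₀ ≤ U₁ := fun Q hQ => (hmem Q).mpr fun P hP hle => by
    rw [Finset.mem_filter, Set.Finite.mem_toFinset] at hP
    have : Q ∈ PrimeSpectrum.zeroLocus (J : Set C) := (hP.1.1.2.trans hle : J ≤ Q.asIdeal)
    rw [← hJ] at this
    exact this hQ
  have hU₁ : IsAffineOpen U₁ := isAffineOpen_compl _ (IsNoetherian.noetherian _)
    (fun m _ => exists_mem_span_prod hreg T hT m) U₁ rfl
  have hn : Pi1.IsNormalScheme (U₁ : Scheme.{u}) := fun z => by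
    have e := (asIso (U₁.ι.stalkMap z)).commRingCatIsoToRingEquiv
    obtain ⟨h1, h2⟩ := isNormalScheme_spec hreg (U₁.ι z)
    exact ⟨MulEquiv.isDomain _ e.symm.toMulEquiv, IsIntegrallyClosed.of_equiv e⟩
  have hcod : ∀ z : (U₁ : Scheme.{u}), z ∉ (U₁.ι ⁻¹ᵁ U₀ : Set (U₁ : Scheme.{u})) →
      2 ≤ ringKrullDim ((U₁ : Scheme.{u}).presheaf.stalk z) := fun z hz => by
    rw [ringKrullDim_eq_of_ringEquiv
      (asIso (U₁.ι.stalkMap z)).commRingCatIsoToRingEquiv.symm]
    change 2 ≤ ringKrullDim ((Spec.structureSheaf C).presheaf.stalk (U₁.ι z))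
    rw [IsLocalization.AtPrime.ringKrullDim_eq_height (U₁.ι z).asIdeal]
    have hzJ : J ≤ (U₁.ι z).asIdeal := by
      have : U₁.ι z ∈ ((U₀ : Set (Spec C)))ᶜ := hz
      rw [hJ] at this
      exact this
    obtain ⟨P, hP, hPz⟩ := Ideal.exists_minimalPrimes_le hzJ
    have hnot : ¬ P.height ≤ 1 := fun h1 =>
      (hmem _).mp z.2 P (Finset.mem_filter.mpr ⟨hfin.mem_toFinset.mpr hP, h1⟩) hPz
    have h2 : (2 : ℕ∞) ≤ P.height := by
      have := not_le.mp hnot
      exact Order.add_one_le_of_lt this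
    exact WithBot.coe_le_coe.mpr (h2.trans (Ideal.height_mono hPz))
  have : IsNoetherianRing C := inferInstance
  have : IsLocallyNoetherian (U₁ : Scheme.{u}) := isLocallyNoetherian_of_isOpenImmersion U₁.ι
  have hb := (Groth.Agent.H15.Codim2.Hartogs.sections_and_trivial hn (U₁.ι ⁻¹ᵁ U₀) hcod
    (Coh.structureModule (U₁ : Scheme.{u})) Lib.RefHull.DivSheaf.isInvertible_structure).1
  refine ⟨U₁, h01, hU₁, ?_⟩
  have e1 : U₁.ι ''ᵁ ⊤ = U₁ := U₁.ι_image_top
  have e2 : U₁.ι ''ᵁ (U₁.ι ⁻¹ᵁ U₀) = U₀ := by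
    rw [Scheme.Hom.image_preimage_eq_opensRange_inf, Scheme.Opens.opensRange_ι, inf_eq_right.mpr h01]
  have hb' : Function.Bijective ((Spec C).presheaf.map
      (homOfLE (U₁.ι.image_mono (le_top : U₁.ι ⁻¹ᵁ U₀ ≤ ⊤))).op) := hb
  have : (Spec C).presheaf.map (homOfLE h01).op = (Spec C).presheaf.map (eqToHom e1).op ≫
      (Spec C).presheaf.map (homOfLE (U₁.ι.image_mono (le_top : U₁.ι ⁻¹ᵁ U₀ ≤ ⊤))).op ≫
      (Spec C).presheaf.map (eqToHom e2.symm).op := by
    simp only [← Functor.map_comp]; rfl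
  rw [this]
  simp only [CommRingCat.hom_comp, RingHom.coe_comp]
  exact (ConcreteCategory.bijective_of_isIso _).comp (hb'.comp (ConcreteCategory.bijective_of_isIso _))

end

end Groth.Agent.H68.EtHull
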